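import Groth.Agent.Lib.Helper1.PullCalc.PullOnComp
import Groth.Agent.Lib.Helper1.HHTools

/-!
# Section-level description of the transposed base change maps `CohCmp.GenBC.bc` (helper1)
-/

set_option autoImplicit false
universe u
open CategoryTheory AlgebraicGeometry TopologicalSpace Opposite

namespace Groth.Agent.Lib.Helper1.PullCalc

open Scheme.Modules

/-- morphisms of modules agree if they agree on sections over affine opens -/
theorem hom_ext_affine {W : Scheme.{u}} {T P : W.Modules} (α β : T ⟶ P)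
    (h : ∀ (O : W.Opens), IsAffineOpen O → ∀ s : Γ(T, O), α.app O s = β.app O s) : α = β := by
  apply Scheme.Modules.hom_ext
  intro V
  ext a
  refine TopCat.Sheaf.eq_of_locally_eq' ⟨P.presheaf, P.isSheaf⟩
    (fun (O : {O : W.affineOpens // O.1 ≤ V}) => O.1.1) V (fun O => homOfLE O.2) ?_ _ _
    (fun O => ?_)
  · intro x hx
    obtain ⟨_, ⟨O, hO, rfl⟩, hxO, hOV⟩ :=
      W.isBasis_affineOpens.exists_subset_of_mem_open hx V.2
    exact Opens.mem_iSup.mpr ⟨⟨⟨O, hO⟩, hOV⟩, hxO⟩
  · change P.presheaf.map (homOfLE O.2).op (α.app V a) = P.presheaf.map (homOfLE O.2).op (β.app V a)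
    rw [Groth.Agent.Lib.Helper1.hom_app_naturality, Groth.Agent.Lib.Helper1.hom_app_naturality]
    exact h O.1.1 O.1.2 _

section adj

variable {S' S : Scheme.{u}} (g : S' ⟶ S) {T : S.Modules} {N : S'.Modules}

/-- the transpose of `k : g^*T ⟶ N` on sections -/
lemma homEquiv_app_apply (k : (pullback g).obj T ⟶ N) (O : S.Opens) (s : Γ(T, O)) :
    ((pullbackPushforwardAdjunction g).homEquiv T N k).app O s =
      k.app (g ⁻¹ᵁ O) (((pullbackPushforwardAdjunction g).unit.app T).app O s) := by
  rw [Adjunction.homEquiv_unit]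
  rfl

lemma homEquiv_symm_app_apply (φ : T ⟶ (pushforward g).obj N) (O : S.Opens) (s : Γ(T, O)) :
    (((pullbackPushforwardAdjunction g).homEquiv T N).symm φ).app (g ⁻¹ᵁ O)
        (((pullbackPushforwardAdjunction g).unit.app T).app O s) = φ.app O s := by
  rw [← homEquiv_app_apply, Equiv.apply_symm_apply]

end adj

section adj2

variable {S'' S' S : Scheme.{u}} (φ : S'' ⟶ S') (ψ : S' ⟶ S) {T : S.Modules} {N : S''.Modules}

/-- the transpose under the composite adjunction, on sections -/
lemma comp_homEquiv_app_apply (k : (pullback φ).obj ((pullback ψ).obj T) ⟶ N) (O : S.Opens)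
    (s : Γ(T, O)) :
    ((((pullbackPushforwardAdjunction ψ).comp (pullbackPushforwardAdjunction φ)).homEquiv T N)
        k).app O s =
      k.app (φ ⁻¹ᵁ (ψ ⁻¹ᵁ O))
        (((pullbackPushforwardAdjunction φ).unit.app ((pullback ψ).obj T)).app (ψ ⁻¹ᵁ O)
          (((pullbackPushforwardAdjunction ψ).unit.app T).app O s)) := by
  rw [Adjunction.homEquiv_unit, Adjunction.comp_unit_app]
  rfl

end adj2

section genbc

open CohCmp

variable {X S S' X' : Scheme.{u}} {f : X ⟶ S} {g : S' ⟶ S} {f' : X' ⟶ S'} {g' : X' ⟶ X}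
  {w : g' ≫ f = f' ≫ g} [HasInjectiveResolutions X.Modules] [HasInjectiveResolutions X'.Modules]
  {Δ : RDer.DerivedLES (pushforward f)} {Δ' : RDer.DerivedLES (pushforward f')}
  {E : SectCmp f Δ} {E' : SectCmp f' Δ'}

/-- `B.bc` on the unit image of a section is `B.φ` of the section -/
lemma bc_app_unit (B : GenBC f g f' g' w E E') (p : ℕ) (F : X.Modules) (O : S.Opens)
    (s : Γ((Coh.Rpush f p).obj F, O)) :
    (B.bc p F).app (g ⁻¹ᵁ O)
        (((pullbackPushforwardAdjunction g).unit.app ((Coh.Rpush f p).obj F)).app O s) =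
      (B.φ p F).app O s :=
  homEquiv_symm_app_apply g (B.φ p F) O s

end genbc

end Groth.Agent.Lib.Helper1.PullCalc
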