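import Groth.Agent.Lib.Helper1.PullCalc.UnitK

/-!
# Composition of the coefficient maps `uG`, `ΘG` (helper1)
-/

set_option autoImplicit false
universe u
open CategoryTheory AlgebraicGeometry TopologicalSpace Opposite

namespace Groth.Agent.Lib.Helper1.PullCalc

open Scheme.Modules

section ext

variable {Y : Scheme.{u}} {U : Y.Opens} (F : Y.Modules)

/-- morphisms out of a restriction are determined on restrictions of sections -/
lemma restrict_hom_ext {P : (U : Scheme.{u}).Modules} (α β : F.restrict U.ι ⟶ P)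
    (h : ∀ (V : Y.Opens) (x : Γ(F, V)),
      α.app (U.ι ⁻¹ᵁ V) (((restrictAdjunction U.ι).unit.app F).app V x) =
        β.app (U.ι ⁻¹ᵁ V) (((restrictAdjunction U.ι).unit.app F).app V x)) : α = β := by
  apply ((restrictAdjunction U.ι).homEquiv _ _).injective
  rw [Adjunction.homEquiv_unit, Adjunction.homEquiv_unit]
  ext V x
  exact h V x

end ext

section K'

variable {X Y : Scheme.{u}} (g : X ⟶ Y) {U : Y.Opens} {U' : X.Opens}
  (a : (U' : Scheme.{u}) ⟶ (U : Scheme.{u})) (w : a ≫ U.ι = U'.ι ≫ g) (F : Y.Modules)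

include w in
lemma image_preimage_le_of_sq' (V : Y.Opens) (O : (U : Scheme.{u}).Opens) (hO : U.ι ''ᵁ O ≤ V) :
    U'.ι ''ᵁ (a ⁻¹ᵁ O) ≤ g ⁻¹ᵁ V := by
  refine le_trans ?_ (image_preimage_le_of_sq g a w V)
  apply Scheme.Hom.image_mono
  intro z hz
  apply hO
  exact ⟨_, hz, rfl⟩

/-- the key formula over an arbitrary open of `U` -/
theorem uG_apply' (V : Y.Opens) (O : (U : Scheme.{u}).Opens) (hO : U.ι ''ᵁ O ≤ V) (x : Γ(F, V)) :
    (uG g a w F).app O (F.presheaf.map (homOfLE hO).op x) =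
      ((pullback g).obj F).presheaf.map (homOfLE (image_preimage_le_of_sq' g a w V O hO)).op
        (((pullbackPushforwardAdjunction g).unit.app F).app V x) := by
  have hle : O ≤ U.ι ⁻¹ᵁ V := by
    intro z hz
    exact hO ⟨z, hz, rfl⟩
  have h1 : F.presheaf.map (homOfLE hO).op x =
      (F.restrict U.ι).presheaf.map (homOfLE hle).op
        (((restrictAdjunction U.ι).unit.app F).app V x) := by
    show _ = F.presheaf.map (U.ι.opensFunctor.map (homOfLE hle)).op
      (F.presheaf.map (homOfLE (U.ι.image_preimage_le V)).op x)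
    rw [← ConcreteCategory.comp_apply, ← Functor.map_comp]
    rfl
  rw [h1]
  refine (app_naturality_apply (uG g a w F) (homOfLE hle).op _).trans ?_
  refine (congrArg (fun t => ((pushforward a).obj (((pullback g).obj F).restrict U'.ι)).presheaf.map
    (homOfLE hle).op t) (uG_apply g a w F V x)).trans ?_
  show ((pullback g).obj F).presheaf.map _ (((pullback g).obj F).presheaf.map _ _) = _
  rw [← ConcreteCategory.comp_apply, ← Functor.map_comp]
  rfl

end K'

section comp

variable {X Y Z : Scheme.{u}} (f : X ⟶ Y) (g : Y ⟶ Z) {U : Z.Opens} {U' : Y.Opens} {U'' : X.Opens}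
  (a : (U' : Scheme.{u}) ⟶ (U : Scheme.{u})) (wa : a ≫ U.ι = U'.ι ≫ g)
  (b : (U'' : Scheme.{u}) ⟶ (U' : Scheme.{u})) (wb : b ≫ U'.ι = U''.ι ≫ f) (F : Z.Modules)

include wa wb in
lemma sq_comp : (b ≫ a) ≫ U.ι = U''.ι ≫ (f ≫ g) := by
  rw [Category.assoc, wa, ← Category.assoc, wb, Category.assoc]

set_option maxRecDepth 8000 in
/-- **Composition of the adjoints `uG`** -/
theorem uG_comp :
    uG (f ≫ g) (b ≫ a) (sq_comp f g a wa b wb) F =
      uG g a wa F ≫ (pushforward a).map (uG f b wb ((pullback g).obj F)) ≫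
        (pushforward a).map ((pushforward b).map
          ((restrictFunctor U''.ι).map ((pullbackComp f g).hom.app F))) ≫
        (pushforwardComp b a).hom.app _ := by
  apply restrict_hom_ext
  intro V x
  rw [uG_apply]
  show _ = ((restrictFunctor U''.ι).map ((pullbackComp f g).hom.app F)).app
      (b ⁻¹ᵁ (a ⁻¹ᵁ (U.ι ⁻¹ᵁ V)))
    ((uG f b wb ((pullback g).obj F)).app (a ⁻¹ᵁ (U.ι ⁻¹ᵁ V))
      ((uG g a wa F).app (U.ι ⁻¹ᵁ V) (((restrictAdjunction U.ι).unit.app F).app V x)))
  rw [uG_apply]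
  refine Eq.trans ?_ (congrArg (fun t => ((restrictFunctor U''.ι).map
    ((pullbackComp f g).hom.app F)).app (b ⁻¹ᵁ (a ⁻¹ᵁ (U.ι ⁻¹ᵁ V))) t)
    (uG_apply' f b wb ((pullback g).obj F) (g ⁻¹ᵁ V) (a ⁻¹ᵁ (U.ι ⁻¹ᵁ V))
      (image_preimage_le_of_sq g a wa V)
      (((pullbackPushforwardAdjunction g).unit.app F).app V x)).symm)
  refine Eq.trans ?_ (app_naturality_apply ((pullbackComp f g).hom.app F) _ _).symm
  refine Eq.trans ?_ (congrArg (fun t => ((pullback (f ≫ g)).obj F).presheaf.map _ t)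
    (unit_comp_hom_apply f g F V x).symm)
  rfl

/-- **Composition of the coefficient maps `ΘG`** -/
theorem ΘG_comp :
    ΘG (f ≫ g) (b ≫ a) (sq_comp f g a wa b wb) F =
      (invComp b.base a.base).hom.app _ ≫ (CohPull.inv b.base).map (ΘG g a wa F) ≫
        ΘG f b wb ((pullback g).obj F) ≫
        (CohCmp.toAbOn X U'').map ((pullbackComp f g).hom.app F) := by
  apply ((CohPull.invPushAdj (b ≫ a).base).homEquiv _ _).injective
  rw [homEquiv_ΘG, uG_comp f g a wa b wb F]
  refine Eq.trans ?_ (homEquiv_invComp b.base a.base ((CohCmp.toAbOn Z U).obj F)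
    ((CohCmp.toAbOn X U'').obj ((pullback (f ≫ g)).obj F))
    ((CohPull.inv b.base).map (ΘG g a wa F) ≫ ΘG f b wb ((pullback g).obj F) ≫
      (CohCmp.toAbOn X U'').map ((pullbackComp f g).hom.app F))).symm
  rw [Adjunction.homEquiv_naturality_left, Adjunction.homEquiv_naturality_right,
    Adjunction.homEquiv_naturality_right, homEquiv_ΘG, homEquiv_ΘG]
  have key : ∀ {M₁ M₂ M₃ M₄ M₅ : (U : Scheme.{u}).Modules} (A : M₁ ⟶ M₂) (B : M₂ ⟶ M₃)
      (C : M₃ ⟶ M₄) (D : M₄ ⟶ M₅),
      (SheafOfModules.toSheaf (U : Scheme.{u}).ringCatSheaf).map (A ≫ B ≫ C ≫ D) =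
        (SheafOfModules.toSheaf (U : Scheme.{u}).ringCatSheaf).map A ≫
          (SheafOfModules.toSheaf (U : Scheme.{u}).ringCatSheaf).map B ≫
          (SheafOfModules.toSheaf (U : Scheme.{u}).ringCatSheaf).map C ≫
          (SheafOfModules.toSheaf (U : Scheme.{u}).ringCatSheaf).map D := by
    intros
    simp
  refine (key _ _ _ _).trans ?_
  rw [Functor.map_comp]
  congr 1

end comp

end Groth.Agent.Lib.Helper1.PullCalc
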