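import Groth.Agent.Lib.Helper1.PullCalc.TopComp
import Groth.Agent.Lib.Helper1.QcqsLoc.ResLE

/-!
# `CohPull.pullOn` along an arbitrary morphism between the open subschemes (helper1)

For `g : X ⟶ Y`, opens `U ⊆ Y`, `U' ⊆ X` and ANY morphism `a : U' ⟶ U` with
`a ≫ U.ι = U'.ι ≫ g` we define `pIso`, `ΘG`, `uG`, `pullOnG` generalising the prelude's
`pullOnIso`, `pullOn` (which are the case `a = g.resLE U U' h`, by `rfl`).
-/

set_option autoImplicit false
universe u
open CategoryTheory CategoryTheory.Limits AlgebraicGeometry TopologicalSpace Opposite Abelian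

namespace Groth.Agent.Lib.Helper1.PullCalc

open Groth.Agent.Lib.Helper55.ExtFunctoriality Groth.Agent.Lib.Helper1.QcqsLoc

variable {X Y : Scheme.{u}} (g : X ⟶ Y) {U : Y.Opens} {U' : X.Opens}
  (a : (U' : Scheme.{u}) ⟶ (U : Scheme.{u})) (w : a ≫ U.ι = U'.ι ≫ g) (F : Y.Modules)

/-- the general form of `CohPull.pullOnIso` -/
noncomputable def pIso :
    (Scheme.Modules.pullback a).obj (F.restrict U.ι) ≅
      ((Scheme.Modules.pullback g).obj F).restrict U'.ι :=
  (Scheme.Modules.pullback a).mapIso ((Scheme.Modules.restrictFunctorIsoPullback U.ι).app F) ≪≫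
    (Scheme.Modules.pullbackComp a U.ι).app F ≪≫
    (Scheme.Modules.pullbackCongr w).app F ≪≫
    ((Scheme.Modules.pullbackComp U'.ι g).app F).symm ≪≫
    ((Scheme.Modules.restrictFunctorIsoPullback U'.ι).app ((Scheme.Modules.pullback g).obj F)).symm

lemma pullOnIso_eq (h : U' ≤ g ⁻¹ᵁ U) :
    CohPull.pullOnIso g U U' h F = pIso g (g.resLE U U' h) (Scheme.Hom.resLE_comp_ι g h) F := rfl

/-- the coefficient map `a⁻¹(F|_U) ⟶ (g^*F)|_{U'}` on abelian sheaves -/
noncomputable def ΘG :
    (CohPull.inv a.base).obj ((CohCmp.toAbOn Y U).obj F) ⟶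
      (CohCmp.toAbOn X U').obj ((Scheme.Modules.pullback g).obj F) :=
  CohPull.theta a (F.restrict U.ι) ≫
    (SheafOfModules.toSheaf (U' : Scheme.{u}).ringCatSheaf).map (pIso g a w F).hom

/-- the module-level adjoint `F|_U ⟶ a_*((g^*F)|_{U'})` -/
noncomputable def uG :
    F.restrict U.ι ⟶
      (Scheme.Modules.pushforward a).obj (((Scheme.Modules.pullback g).obj F).restrict U'.ι) :=
  (Scheme.Modules.pullbackPushforwardAdjunction a).unit.app (F.restrict U.ι) ≫
    (Scheme.Modules.pushforward a).map (pIso g a w F).hom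

/-- the general form of `CohPull.pullOn` -/
noncomputable def pullOnG (p : ℕ) :
    Coh.HHon Y F U p →+ Coh.HHon X ((Scheme.Modules.pullback g).obj F) U' p :=
  (CohPull.mapH (pIso g a w F).hom p).comp (CohPull.pullMod a (F.restrict U.ι) p)

lemma pullOn_eq_pullOnG (h : U' ≤ g ⁻¹ᵁ U) (p : ℕ) :
    CohPull.pullOn g U U' h F p =
      pullOnG g (g.resLE U U' h) (Scheme.Hom.resLE_comp_ι g h) F p := rfl

lemma pullOnG_eq (p : ℕ) (x : Coh.HHon Y F U p) :
    pullOnG g a w F p x =
      conj (CohPull.oneTo a.base) (x.mapExactFunctor (CohPull.inv a.base)) (ΘG g a w F) := by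
  unfold pullOnG CohPull.pullMod CohPull.pullAb CohPull.mapH conj ΘG
  simp only [AddMonoidHom.comp_apply, Sheaf.H.map_apply]
  simp only [Ext.bilinearComp_apply_apply, Functor.mapExtAddHom_apply,
    Ext.comp_assoc_of_third_deg_zero, Ext.mk₀_comp_mk₀]

/-- the transpose of `ΘG` under `a⁻¹ ⊣ a_*` is the underlying map of `uG` -/
lemma homEquiv_ΘG :
    (CohPull.invPushAdj a.base).homEquiv _ _ (ΘG g a w F) =
      (SheafOfModules.toSheaf (U : Scheme.{u}).ringCatSheaf).map (uG g a w F) := by
  unfold ΘG uG CohPull.theta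
  refine ((CohPull.invPushAdj a.base).homEquiv_naturality_right _ _).trans ?_
  refine (congrArg (fun k => k ≫ (CohTop.push a.base).map
    ((SheafOfModules.toSheaf (U' : Scheme.{u}).ringCatSheaf).map (pIso g a w F).hom))
    (Equiv.apply_symm_apply _ _)).trans ?_
  exact ((SheafOfModules.toSheaf (U : Scheme.{u}).ringCatSheaf).map_comp
    ((Scheme.Modules.pullbackPushforwardAdjunction a).unit.app (F.restrict U.ι))
    ((Scheme.Modules.pushforward a).map (pIso g a w F).hom)).symm

end Groth.Agent.Lib.Helper1.PullCalc
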