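import Groth.Agent.Lib.Helper1.PullCalc.CompD

/-!
# Functoriality of `CohPull.pullOn` (helper1)

`pullOnG_comp`: `pullOnG (f ≫ g) (b ≫ a) = H(pullbackComp) ∘ pullOnG f b ∘ pullOnG g a`, and the
corresponding statement `pullOn_comp` for the prelude's `CohPull.pullOn`.
-/

set_option autoImplicit false
universe u
open CategoryTheory AlgebraicGeometry TopologicalSpace Opposite Abelian

namespace Groth.Agent.Lib.Helper1.PullCalc

open Scheme.Modules Groth.Agent.Lib.Helper55.ExtFunctoriality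

section abstract

universe w₁ w₂ w₃ v₁ v₂ v₃ u₁ u₂ u₃

variable {C₁ : Type u₁} [Category.{v₁} C₁] [Abelian C₁] [EnoughInjectives C₁]
  {C₂ : Type u₂} [Category.{v₂} C₂] [Abelian C₂]
  {C₃ : Type u₃} [Category.{v₃} C₃] [Abelian C₃]
  [HasExt.{w₁} C₁] [HasExt.{w₂} C₂] [HasExt.{w₃} C₃]
  (G : C₁ ⥤ C₂) [G.Additive] [Limits.PreservesFiniteLimits G] [Limits.PreservesFiniteColimits G]
  (H : C₂ ⥤ C₃) [H.Additive] [Limits.PreservesFiniteLimits H] [Limits.PreservesFiniteColimits H]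
  (K : C₁ ⥤ C₃) [K.Additive] [Limits.PreservesFiniteLimits K] [Limits.PreservesFiniteColimits K]
  (κ : K ≅ G ⋙ H)

theorem conj_comp_aux {Z₁ M : C₁} {Z₂ N₂ : C₂} {Z₃ N₃ N₃' : C₃}
    (oa : Z₂ ⟶ G.obj Z₁) (ob : Z₃ ⟶ H.obj Z₂) (oc : Z₃ ⟶ K.obj Z₁)
    (ho : oc ≫ κ.hom.app Z₁ = ob ≫ H.map oa)
    (θa : G.obj M ⟶ N₂) (θb : H.obj N₂ ⟶ N₃) (π : N₃ ⟶ N₃') (θc : K.obj M ⟶ N₃')
    (hθ : θc = κ.hom.app M ≫ H.map θa ≫ θb ≫ π) {p : ℕ} (x : Ext.{w₁} Z₁ M p) :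
    conj oc (x.mapExactFunctor K) θc =
      (conj ob ((conj oa (x.mapExactFunctor G) θa).mapExactFunctor H) θb).comp
        (Ext.mk₀ π) (add_zero p) := by
  rw [mapExactFunctor_iso K (G ⋙ H) κ x, conj_conj, map_conj, conj_conj, conj_comp_mk₀,
    mapExactFunctor_comp_functor, ho, hθ]
  congr 1
  simp

end abstract

section comp

variable {X Y Z : Scheme.{u}} (f : X ⟶ Y) (g : Y ⟶ Z) {U : Z.Opens} {U' : Y.Opens} {U'' : X.Opens}
  (a : (U' : Scheme.{u}) ⟶ (U : Scheme.{u})) (wa : a ≫ U.ι = U'.ι ≫ g)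
  (b : (U'' : Scheme.{u}) ⟶ (U' : Scheme.{u})) (wb : b ≫ U'.ι = U''.ι ≫ f) (F : Z.Modules)

lemma mapH_apply {W : Scheme.{u}} {M N : W.Modules} (φ : M ⟶ N) (p : ℕ) (y : Coh.HH W M p) :
    CohPull.mapH φ p y =
      y.comp (Ext.mk₀ ((SheafOfModules.toSheaf W.ringCatSheaf).map φ)) (add_zero p) := by
  unfold CohPull.mapH
  rw [Sheaf.H.map_apply]

/-- **Functoriality of the pullback on cohomology over opens** -/
theorem pullOnG_comp (p : ℕ) (x : Coh.HHon Z F U p) :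
    pullOnG (f ≫ g) (b ≫ a) (sq_comp f g a wa b wb) F p x =
      CohPull.mapH ((restrictFunctor U''.ι).map ((pullbackComp f g).hom.app F)) p
        (pullOnG f b wb ((pullback g).obj F) p (pullOnG g a wa F p x)) := by
  rw [mapH_apply, pullOnG_eq, pullOnG_eq, pullOnG_eq]
  have h2 : CohPull.oneTo (b.base ≫ a.base) ≫ (invComp b.base a.base).hom.app _ =
      CohPull.oneTo b.base ≫ (CohPull.inv b.base).map (CohPull.oneTo a.base) := by
    rw [oneTo_comp b.base a.base]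
    simp
  exact conj_comp_aux (CohPull.inv a.base) (CohPull.inv b.base) (CohPull.inv (b.base ≫ a.base))
    (invComp b.base a.base) (CohPull.oneTo a.base) (CohPull.oneTo b.base)
    (CohPull.oneTo (b.base ≫ a.base)) h2 (ΘG g a wa F) (ΘG f b wb ((pullback g).obj F))
    ((CohCmp.toAbOn X U'').map ((pullbackComp f g).hom.app F))
    (ΘG (f ≫ g) (b ≫ a) (sq_comp f g a wa b wb) F) (ΘG_comp f g a wa b wb F) x

lemma pullOnG_congr {a a' : (U' : Scheme.{u}) ⟶ (U : Scheme.{u})} (e : a = a')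
    (w : a ≫ U.ι = U'.ι ≫ g) (w' : a' ≫ U.ι = U'.ι ≫ g) (p : ℕ) :
    pullOnG g a w F p = pullOnG g a' w' F p := by
  subst e
  rfl

/-- **Functoriality of `CohPull.pullOn`** -/
theorem pullOn_comp (h' : U' ≤ g ⁻¹ᵁ U) (h'' : U'' ≤ f ⁻¹ᵁ U') (h : U'' ≤ (f ≫ g) ⁻¹ᵁ U)
    (p : ℕ) (x : Coh.HHon Z F U p) :
    CohPull.pullOn (f ≫ g) U U'' h F p x =
      CohPull.mapH ((restrictFunctor U''.ι).map ((pullbackComp f g).hom.app F)) p
        (CohPull.pullOn f U' U'' h'' ((pullback g).obj F) p (CohPull.pullOn g U U' h' F p x)) := by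
  rw [pullOn_eq_pullOnG, pullOn_eq_pullOnG, pullOn_eq_pullOnG]
  rw [pullOnG_congr (f ≫ g) F (Scheme.Hom.resLE_comp_resLE f h'' g h').symm
    (Scheme.Hom.resLE_comp_ι (f ≫ g) h)
    (sq_comp f g _ (Scheme.Hom.resLE_comp_ι g h') _ (Scheme.Hom.resLE_comp_ι f h''))]
  exact pullOnG_comp f g _ _ _ _ F p x

end comp

end Groth.Agent.Lib.Helper1.PullCalc
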