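import Groth.Prelude.Def_CohCmp
import Groth.Agent.Lib.Helper55.ExtFunctoriality
import Groth.Agent.Lib.Helper4.AdjConst

/-!
# Functoriality of `CohPull.pullAb` in the continuous map (helper1)

`invComp f g : inv (f ≫ g) ≅ inv g ⋙ inv f` (uniqueness of left adjoints), `oneTo_comp`, and
`pullAb_comp : pullAb (f ≫ g) = H(invComp⁻¹) ∘ pullAb f ∘ pullAb g`.
-/

set_option autoImplicit false
universe u
open CategoryTheory CategoryTheory.Limits AlgebraicGeometry TopologicalSpace Opposite Abelian

namespace Groth.Agent.Lib.Helper1.PullCalc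

open Groth.Agent.Lib.Helper4.AdjConst Groth.Agent.Lib.Helper55.ExtFunctoriality

variable {X Y Z : TopCat.{u}} (f : X ⟶ Y) (g : Y ⟶ Z)

/-- `(f ≫ g)_* = g_* f_*` on abelian sheaves, as an isomorphism of functors -/
noncomputable def pushComp : CohTop.push f ⋙ CohTop.push g ≅ CohTop.push (f ≫ g) :=
  Iso.refl _

/-- global sections of `f_* G` are global sections of `G` -/
noncomputable def pushΓ : CohTop.push f ⋙
      (sheafSections (Opens.grothendieckTopology Y) AddCommGrpCat.{u}).obj (op ⊤) ≅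
    (sheafSections (Opens.grothendieckTopology X) AddCommGrpCat.{u}).obj (op ⊤) :=
  Iso.refl _

/-- the composition isomorphism for inverse images of abelian sheaves -/
noncomputable def invComp : CohPull.inv (f ≫ g) ≅ CohPull.inv g ⋙ CohPull.inv f :=
  κIso (CohPull.invPushAdj g) (CohPull.invPushAdj f) (CohPull.invPushAdj (f ≫ g)) (pushComp f g)

/-- the unit of `(f ≫ g)⁻¹ ⊣ (f ≫ g)_*` through the composition isomorphism -/
lemma unit_invComp (M : CohTop.Ab Z) :
    (CohPull.invPushAdj (f ≫ g)).unit.app M ≫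
        (CohTop.push (f ≫ g)).map ((invComp f g).hom.app M) =
      (CohPull.invPushAdj g).unit.app M ≫
        (CohTop.push g).map ((CohPull.invPushAdj f).unit.app ((CohPull.inv g).obj M)) := by
  have h := Adjunction.unit_leftAdjointUniq_hom_app (CohPull.invPushAdj (f ≫ g))
    (((CohPull.invPushAdj g).comp (CohPull.invPushAdj f)).ofNatIsoRight (pushComp f g)) M
  rw [ofNatIsoRight_unit_app, Adjunction.comp_unit_app] at h
  refine h.trans ?_
  exact Category.comp_id _

/-- transposition under `(f ≫ g)⁻¹ ⊣ (f ≫ g)_*` through the composition isomorphism is the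
iterated transposition -/
lemma homEquiv_invComp (M : CohTop.Ab Z) (N : CohTop.Ab X)
    (ξ : (CohPull.inv f).obj ((CohPull.inv g).obj M) ⟶ N) :
    (CohPull.invPushAdj (f ≫ g)).homEquiv M N ((invComp f g).hom.app M ≫ ξ) =
      (CohPull.invPushAdj g).homEquiv M ((CohTop.push f).obj N)
        ((CohPull.invPushAdj f).homEquiv _ N ξ) := by
  rw [Adjunction.homEquiv_unit, Adjunction.homEquiv_unit, Adjunction.homEquiv_unit,
    Functor.map_comp, ← Category.assoc, unit_invComp, Functor.map_comp]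
  exact Category.assoc _ _ _

lemma oneTo_eq_cIso :
    CohPull.oneTo f =
      (cIso (CohPull.adjZ Y) (CohPull.adjZ X) (CohPull.invPushAdj f) (pushΓ f)).inv.app
        (AddCommGrpCat.of (ULift.{u} ℤ)) := by
  apply ((CohPull.adjZ X).homEquiv _ _).injective
  have h := homEquiv_cIso_inv_app (CohPull.adjZ Y) (CohPull.adjZ X) (CohPull.invPushAdj f)
    (pushΓ f) (AddCommGrpCat.of (ULift.{u} ℤ))
  refine Eq.trans ?_ h.symm
  unfold CohPull.oneTo CohPull.oneSec
  rw [Equiv.apply_symm_apply, Adjunction.homEquiv_unit]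
  simp [pushΓ]

lemma oneTo_comp :
    CohPull.oneTo (f ≫ g) =
      CohPull.oneTo f ≫ (CohPull.inv f).map (CohPull.oneTo g) ≫
        (invComp f g).inv.app (CohTop.const Z (ULift.{u} ℤ)) := by
  rw [oneTo_eq_cIso, oneTo_eq_cIso, oneTo_eq_cIso]
  exact cIso_inv_comp (CohPull.adjZ Z) (CohPull.adjZ Y) (CohPull.adjZ X)
    (CohPull.invPushAdj g) (CohPull.invPushAdj f) (CohPull.invPushAdj (f ≫ g))
    (pushΓ g) (pushΓ f) (pushΓ (f ≫ g)) (pushComp f g)
    (fun G => by simp [pushΓ, pushComp]) (AddCommGrpCat.of (ULift.{u} ℤ))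

lemma pullAb_apply (M : CohTop.Ab Y) (p : ℕ) (x : Sheaf.H M p) :
    CohPull.pullAb f M p x =
      (Ext.mk₀ (CohPull.oneTo f)).comp (x.mapExactFunctor (CohPull.inv f)) (zero_add p) := rfl

/-- `pullAb` is compatible with composition of continuous maps -/
theorem pullAb_comp (M : CohTop.Ab Z) (p : ℕ) (x : Sheaf.H M p) :
    CohPull.pullAb (f ≫ g) M p x =
      (CohPull.pullAb f ((CohPull.inv g).obj M) p (CohPull.pullAb g M p x)).comp
        (Ext.mk₀ ((invComp f g).inv.app M)) (add_zero p) := by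
  rw [pullAb_apply, pullAb_apply, pullAb_apply,
    mapExactFunctor_iso (CohPull.inv (f ≫ g)) (CohPull.inv g ⋙ CohPull.inv f) (invComp f g) x,
    mk₀_comp_conj, mapExactFunctor_comp_functor, Ext.mapExactFunctor_comp,
    Ext.mapExactFunctor_mk₀, Ext.mk₀_comp_mk₀_assoc, conj_eq']
  congr 1
  rw [oneTo_comp]
  simp

end Groth.Agent.Lib.Helper1.PullCalc
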