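import Groth.Agent.Lib.Helper1.PullCalc.PullGen

/-!
# Unit calculus for `pIso` (helper1)

Section-level formulas for the units of `g^* ⊣ g_*` through `pullbackComp`, `pullbackCongr`,
`restrictFunctorIsoPullback`, and the key formula `uG_apply` for the adjoint `uG` of `pIso`.
-/

set_option autoImplicit false
universe u
open CategoryTheory AlgebraicGeometry TopologicalSpace Opposite

namespace Groth.Agent.Lib.Helper1.PullCalc

open Scheme.Modules

section general

variable {A B C : Scheme.{u}} (a : A ⟶ B) (b : B ⟶ C) (M : C.Modules)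

/-- the unit of `(a ≫ b)^* ⊣ (a ≫ b)_*` through `pullbackComp`, on sections -/
lemma unit_comp_app (V : C.Opens) :
    ((pullbackPushforwardAdjunction (a ≫ b)).unit.app M).app V ≫
        ((pullbackComp a b).inv.app M).app ((a ≫ b) ⁻¹ᵁ V) =
      ((pullbackPushforwardAdjunction b).unit.app M).app V ≫
        ((pullbackPushforwardAdjunction a).unit.app ((pullback b).obj M)).app (b ⁻¹ᵁ V) := by
  have h := unit_conjugateEquiv
    ((pullbackPushforwardAdjunction b).comp (pullbackPushforwardAdjunction a))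
    (pullbackPushforwardAdjunction (a ≫ b)) (pullbackComp a b).inv M
  rw [conjugateEquiv_pullbackComp_inv] at h
  have h2 := congrArg (fun k => Scheme.Modules.Hom.app k V) h
  simp only [Adjunction.comp_unit_app] at h2
  exact h2.symm

lemma unit_comp_inv_apply (V : C.Opens) (x : Γ(M, V)) :
    ((pullbackComp a b).inv.app M).app ((a ≫ b) ⁻¹ᵁ V)
        (((pullbackPushforwardAdjunction (a ≫ b)).unit.app M).app V x) =
      ((pullbackPushforwardAdjunction a).unit.app ((pullback b).obj M)).app (b ⁻¹ᵁ V)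
        (((pullbackPushforwardAdjunction b).unit.app M).app V x) :=
  ConcreteCategory.congr_hom (unit_comp_app a b M V) x

lemma hom_inv_app_apply {N N' : B.Modules} (e : N ≅ N') (O : B.Opens) (y : Γ(N', O)) :
    e.hom.app O (e.inv.app O y) = y := by
  have h : e.inv.app O ≫ e.hom.app O = 𝟙 _ := by
    rw [← Scheme.Modules.Hom.comp_app, Iso.inv_hom_id]
    rfl
  exact ConcreteCategory.congr_hom h y

lemma inv_hom_app_apply {N N' : B.Modules} (e : N ≅ N') (O : B.Opens) (y : Γ(N, O)) :
    e.inv.app O (e.hom.app O y) = y := by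
  have h : e.hom.app O ≫ e.inv.app O = 𝟙 _ := by
    rw [← Scheme.Modules.Hom.comp_app, Iso.hom_inv_id]
    rfl
  exact ConcreteCategory.congr_hom h y

lemma unit_comp_hom_apply (V : C.Opens) (x : Γ(M, V)) :
    ((pullbackComp a b).hom.app M).app ((a ≫ b) ⁻¹ᵁ V)
        (((pullbackPushforwardAdjunction a).unit.app ((pullback b).obj M)).app (b ⁻¹ᵁ V)
          (((pullbackPushforwardAdjunction b).unit.app M).app V x)) =
      ((pullbackPushforwardAdjunction (a ≫ b)).unit.app M).app V x := by
  rw [← unit_comp_inv_apply]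
  exact hom_inv_app_apply ((pullbackComp a b).app M) _ _

/-- the unit along equal morphisms -/
lemma unit_congr_apply {k k' : A ⟶ B} (h : k = k') (N : B.Modules) (V : B.Opens) (x : Γ(N, V)) :
    ((pullbackCongr h).hom.app N).app (k ⁻¹ᵁ V)
        (((pullbackPushforwardAdjunction k).unit.app N).app V x) =
      ((pullback k').obj N).presheaf.map (eqToHom (by rw [h])).op
        (((pullbackPushforwardAdjunction k').unit.app N).app V x) := by
  subst h
  simp [pullbackCongr]

/-- naturality of a morphism of modules with respect to restriction -/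
lemma app_naturality_apply {N N' : B.Modules} (φ : N ⟶ N') {O₁ O₂ : B.Opens} (e : op O₁ ⟶ op O₂)
    (y : Γ(N, O₁)) :
    φ.app O₂ (N.presheaf.map e y) = N'.presheaf.map e (φ.app O₁ y) :=
  ConcreteCategory.congr_hom (φ.mapPresheaf.naturality e) y

/-- `restrictFunctorIsoPullback` and the two units -/
lemma unit_restrictIso_apply (j : A ⟶ B) [IsOpenImmersion j] (N : B.Modules) (V : B.Opens)
    (x : Γ(N, V)) :
    ((restrictFunctorIsoPullback j).hom.app N).app (j ⁻¹ᵁ V)
        (((restrictAdjunction j).unit.app N).app V x) =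
      ((pullbackPushforwardAdjunction j).unit.app N).app V x := by
  have h := Adjunction.unit_leftAdjointUniq_hom_app (restrictAdjunction j)
    (pullbackPushforwardAdjunction j) N
  exact ConcreteCategory.congr_hom (congrArg (fun k => Scheme.Modules.Hom.app k V) h) x

lemma unit_restrictIso_inv_apply (j : A ⟶ B) [IsOpenImmersion j] (N : B.Modules) (V : B.Opens)
    (x : Γ(N, V)) :
    ((restrictFunctorIsoPullback j).inv.app N).app (j ⁻¹ᵁ V)
        (((pullbackPushforwardAdjunction j).unit.app N).app V x) =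
      ((restrictAdjunction j).unit.app N).app V x := by
  rw [← unit_restrictIso_apply]
  exact inv_hom_app_apply ((restrictFunctorIsoPullback j).app N) _ _

/-- unit naturality on sections -/
lemma unit_naturality_apply {N N' : B.Modules} (φ : N ⟶ N') (V : B.Opens) (x : Γ(N, V)) :
    ((pullback a).map φ).app (a ⁻¹ᵁ V) (((pullbackPushforwardAdjunction a).unit.app N).app V x) =
      ((pullbackPushforwardAdjunction a).unit.app N').app V (φ.app V x) := by
  have h := (pullbackPushforwardAdjunction a).unit.naturality φ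
  exact (ConcreteCategory.congr_hom (congrArg (fun k => Scheme.Modules.Hom.app k V) h) x).symm

lemma restrict_map_unit_apply (j : A ⟶ B) [IsOpenImmersion j] (P : B.Modules) (W : B.Opens)
    (O : A.Opens) (e : op (j ⁻¹ᵁ W) ⟶ op O) (hle : j ''ᵁ O ≤ W) (y : Γ(P, W)) :
    (P.restrict j).presheaf.map e (((restrictAdjunction j).unit.app P).app W y) =
      P.presheaf.map (homOfLE hle).op y := by
  show P.presheaf.map (j.opensFunctor.map e.unop).op
    (P.presheaf.map (homOfLE (j.image_preimage_le W)).op y) = _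
  rw [← ConcreteCategory.comp_apply, ← Functor.map_comp]
  rfl

end general

section K

variable {X Y : Scheme.{u}} (g : X ⟶ Y) {U : Y.Opens} {U' : X.Opens}
  (a : (U' : Scheme.{u}) ⟶ (U : Scheme.{u})) (w : a ≫ U.ι = U'.ι ≫ g) (F : Y.Modules)

include w in
lemma image_preimage_le_of_sq (V : Y.Opens) : U'.ι ''ᵁ (a ⁻¹ᵁ (U.ι ⁻¹ᵁ V)) ≤ g ⁻¹ᵁ V := by
  have h1 : a ⁻¹ᵁ (U.ι ⁻¹ᵁ V) = U'.ι ⁻¹ᵁ (g ⁻¹ᵁ V) := by
    rw [← Scheme.Hom.comp_preimage, ← Scheme.Hom.comp_preimage, w]
  rw [h1]
  exact Scheme.Hom.image_preimage_le _ _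

/-- **Key formula**: the adjoint `uG` of `pIso`, transposed to `Y`, is the unit of `g^* ⊣ g_*`
followed by restriction. -/
theorem uG_apply (V : Y.Opens) (x : Γ(F, V)) :
    (uG g a w F).app (U.ι ⁻¹ᵁ V) (((restrictAdjunction U.ι).unit.app F).app V x) =
      ((pullback g).obj F).presheaf.map (homOfLE (image_preimage_le_of_sq g a w V)).op
        (((pullbackPushforwardAdjunction g).unit.app F).app V x) := by
  show ((restrictFunctorIsoPullback U'.ι).inv.app ((pullback g).obj F)).app (a ⁻¹ᵁ (U.ι ⁻¹ᵁ V))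
      (((pullbackComp U'.ι g).inv.app F).app (a ⁻¹ᵁ (U.ι ⁻¹ᵁ V))
        (((pullbackCongr w).hom.app F).app (a ⁻¹ᵁ (U.ι ⁻¹ᵁ V))
          (((pullbackComp a U.ι).hom.app F).app (a ⁻¹ᵁ (U.ι ⁻¹ᵁ V))
            (((pullback a).map ((restrictFunctorIsoPullback U.ι).hom.app F)).app
              (a ⁻¹ᵁ (U.ι ⁻¹ᵁ V))
              (((pullbackPushforwardAdjunction a).unit.app (F.restrict U.ι)).app (U.ι ⁻¹ᵁ V)
                (((restrictAdjunction U.ι).unit.app F).app V x)))))) = _
  rw [unit_naturality_apply, unit_restrictIso_apply]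
  have h3 := unit_comp_hom_apply a U.ι F V x
  have h4 := unit_congr_apply w F V x
  have h6 := unit_comp_inv_apply U'.ι g F V x
  have h7 := unit_restrictIso_inv_apply U'.ι ((pullback g).obj F) (g ⁻¹ᵁ V)
    (((pullbackPushforwardAdjunction g).unit.app F).app V x)
  refine (congrArg (fun t => ((restrictFunctorIsoPullback U'.ι).inv.app ((pullback g).obj F)).app
      (a ⁻¹ᵁ (U.ι ⁻¹ᵁ V)) (((pullbackComp U'.ι g).inv.app F).app (a ⁻¹ᵁ (U.ι ⁻¹ᵁ V))
        (((pullbackCongr w).hom.app F).app (a ⁻¹ᵁ (U.ι ⁻¹ᵁ V)) t))) h3).trans ?_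
  refine (congrArg (fun t => ((restrictFunctorIsoPullback U'.ι).inv.app ((pullback g).obj F)).app
      (a ⁻¹ᵁ (U.ι ⁻¹ᵁ V)) (((pullbackComp U'.ι g).inv.app F).app (a ⁻¹ᵁ (U.ι ⁻¹ᵁ V)) t))
      h4).trans ?_
  refine (congrArg (fun t => ((restrictFunctorIsoPullback U'.ι).inv.app ((pullback g).obj F)).app
      (a ⁻¹ᵁ (U.ι ⁻¹ᵁ V)) t)
      (app_naturality_apply ((pullbackComp U'.ι g).inv.app F) _ _)).trans ?_
  refine (congrArg (fun t => ((restrictFunctorIsoPullback U'.ι).inv.app ((pullback g).obj F)).app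
      (a ⁻¹ᵁ (U.ι ⁻¹ᵁ V)) ((((pullback g ⋙ pullback U'.ι).obj F).presheaf.map _) t)) h6).trans ?_
  refine (app_naturality_apply
    ((restrictFunctorIsoPullback U'.ι).inv.app ((pullback g).obj F)) _ _).trans ?_
  refine (congrArg (fun t => (((pullback g).obj F).restrict U'.ι).presheaf.map _ t) h7).trans ?_
  exact restrict_map_unit_apply U'.ι ((pullback g).obj F) (g ⁻¹ᵁ V) _ _ _ _

end K

end Groth.Agent.Lib.Helper1.PullCalc
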